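import Groth.Agent.Lib.EtSite.LangSemilinear

/-!
# Lang's surjectivity for semilinear maps over a separably closed field
-/

set_option autoImplicit false

universe u v

namespace Groth.Agent.Lib.LangSep98.Basic

variable {k : Type u} [Field k] (p : ℕ) [Fact p.Prime] [CharP k p]

/-- Over a separably closed field every algebraic element has some `p`-power in the field. -/
theorem exists_pow_mem [IsSepClosed k] (x : AlgebraicClosure k) :
    ∃ n : ℕ, x ^ p ^ n ∈ (algebraMap k (AlgebraicClosure k)).range := by
  have : IsPurelyInseparable k (AlgebraicClosure k) := by infer_instance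
  have : ExpChar k p := ExpChar.prime Fact.out
  exact IsPurelyInseparable.pow_mem k p x

/-- `F - id` is surjective on finite dimensional spaces over a separably closed field. -/
theorem sub_id_surjective [IsSepClosed k] {V : Type v} [AddCommGroup V] [Module k V]
    [FiniteDimensional k V] (F : V →+ V) (hF : ∀ (c : k) (v : V), F (c • v) = c ^ p • F v) :
    Function.Surjective fun v => F v - v := by
  classical
  have : CharP (AlgebraicClosure k) p :=
    (RingHom.charP_iff (algebraMap k (AlgebraicClosure k)) (RingHom.injective _) p).1 inferInstance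
  let d := Module.finrank k V
  let b := Module.finBasis k V
  let ι : V →+ (Fin d → AlgebraicClosure k) :=
    { toFun := fun v i => algebraMap k (AlgebraicClosure k) (b.repr v i)
      map_zero' := by ext; simp
      map_add' := fun v w => by ext; simp }
  have hι : Function.Injective ι := fun v w h => b.repr.injective (Finsupp.ext fun i =>
    (algebraMap k (AlgebraicClosure k)).injective (congrFun h i))
  let G : (Fin d → AlgebraicClosure k) →+ (Fin d → AlgebraicClosure k) :=
    { toFun := fun w => ∑ i, (w i) ^ p • ι (F (b i))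
      map_zero' := by simp [zero_pow (Fact.out : p.Prime).ne_zero]
      map_add' := fun w w' => by
        simp only [Pi.add_apply, add_pow_char, add_smul, Finset.sum_add_distrib] }
  have hG : ∀ (c : AlgebraicClosure k) w, G (c • w) = c ^ p • G w := fun c w => by
    change ∑ i, ((c • w) i) ^ p • ι (F (b i)) = c ^ p • ∑ i, (w i) ^ p • ι (F (b i))
    simp only [Pi.smul_apply, smul_eq_mul, mul_pow, Finset.smul_sum, smul_smul]
  have hιs : ∀ (c : k) (v : V), ι (c • v) = algebraMap k (AlgebraicClosure k) c • ι v := fun c v => by
    ext i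
    simp [ι]
  have hGι : ∀ v, G (ι v) = ι (F v) := fun v => by
    conv_rhs => rw [← b.sum_repr v, map_sum, map_sum]
    change ∑ i, (ι v i) ^ p • ι (F (b i)) = _
    refine Finset.sum_congr rfl fun i _ => ?_
    rw [hF, hιs, map_pow]
    rfl
  intro v₀
  obtain ⟨w, hw⟩ := EtSite.LangSemilinear.sub_id_surjective p G hG (ι v₀)
  -- a sufficiently high iterate of `G` at `w` is rational
  choose n hn using fun i => exists_pow_mem p (w i)
  let N := Finset.univ.sup n + 1
  have hN : ∀ i, (w i) ^ p ^ (N - 1) ∈ (algebraMap k (AlgebraicClosure k)).range := fun i => by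
    obtain ⟨m, hm⟩ := Nat.exists_eq_add_of_le (Finset.le_sup (f := n) (Finset.mem_univ i))
    obtain ⟨c, hc⟩ := hn i
    refine ⟨c ^ p ^ m, ?_⟩
    rw [map_pow, hc, ← pow_mul, ← pow_add, ← hm]
    rfl
  have key : ∀ m : ℕ, ∀ x : Fin d → AlgebraicClosure k,
      (∀ i, (x i) ^ p ^ m ∈ (algebraMap k (AlgebraicClosure k)).range) →
        ∃ v, G^[m + 1] x = ι v := by
    intro m
    induction m with
    | zero =>
      intro x hx
      choose c hc using hx
      refine ⟨F (∑ i, c i • b i), ?_⟩
      rw [← hGι]
      change G x = _
      congr 1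
      ext i
      simpa [ι, Finsupp.single_apply, apply_ite] using (pow_one (x i)).symm.trans (hc i).symm
    | succ m ih =>
      intro x hx
      rw [Function.iterate_succ_apply]
      refine ih (G x) fun j => ?_
      change (∑ i, (x i) ^ p • ι (F (b i))) j ^ p ^ m ∈ _
      rw [Finset.sum_apply, sum_pow_char_pow]
      refine sum_mem fun i _ => ?_
      rw [Pi.smul_apply, smul_eq_mul, mul_pow, ← pow_mul, ← pow_succ']
      exact mul_mem (hx i) ⟨(b.repr (F (b i)) j) ^ p ^ m, by simp [ι]⟩
  obtain ⟨v₁, hv₁⟩ := key (N - 1) w hN
  -- telescoping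
  have htel : ∀ m : ℕ, G^[m] w = w + ι (∑ i ∈ Finset.range m, F^[i] v₀) := by
    intro m
    induction m with
    | zero => simp
    | succ m ih =>
      have hiter : ∀ i, G^[i] (ι v₀) = ι (F^[i] v₀) := fun i => by
        induction i with
        | zero => rfl
        | succ i ih' => rw [Function.iterate_succ_apply', ih', hGι, Function.iterate_succ_apply']
      rw [Function.iterate_succ_apply, show G w = w + ι v₀ by rw [← show G w - w = ι v₀ from hw]; abel, iterate_map_add, ih,
        hiter, Finset.sum_range_succ, map_add, add_assoc]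
  refine ⟨v₁ - ∑ i ∈ Finset.range (N - 1 + 1), F^[i] v₀, hι ?_⟩
  have hw' : w = ι (v₁ - ∑ i ∈ Finset.range (N - 1 + 1), F^[i] v₀) := by
    rw [map_sub, ← hv₁, htel]
    abel
  change ι (F _ - _) = ι v₀
  rw [map_sub, ← hGι, ← hw']
  exact hw

end Groth.Agent.Lib.LangSep98.Basic
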