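import Groth.Agent.Lib.EtSite.ASProper
import Groth.Agent.Lib.LangSep98.Basic
import Groth.Agent.S0458

/-!
# Artin-Schreier over separably closed fields: fixed vectors of Frobenius on `H^n(X, G_a)`
-/

set_option autoImplicit false

universe u v

open CategoryTheory CategoryTheory.Limits CategoryTheory.Abelian AlgebraicGeometry Opposite

noncomputable section

namespace Groth.Agent.Lib.LangSep98.EtFix

open Groth.Agent.Lib.EtQCoh Groth.Agent.Lib.EtSite

/-- The fixed vectors of a semilinear map number at most `p ^ dim`. -/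
theorem card_fixed {k : Type u} [Field k] (p : ℕ) [Fact p.Prime] [CharP k p] {V : Type v}
    [AddCommGroup V] [Module k V] [FiniteDimensional k V] (F : V →+ V)
    (hF : ∀ (c : k) (v : V), F (c • v) = c ^ p • F v) :
    {v : V | F v = v}.Finite ∧ Nat.card {v : V | F v = v} ≤ p ^ Module.finrank k V := by
  classical
  have : NeZero p := ⟨(Fact.out : p.Prime).ne_zero⟩
  obtain ⟨s, hs, hspan, hli⟩ := exists_linearIndependent k {v : V | F v = v}
  letI := hli.setFinite.fintype
  have hcard : Fintype.card s ≤ Module.finrank k V := hli.fintype_card_le_finrank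
  have hsub : {v : V | F v = v} ⊆ Set.range fun e : s → ZMod p =>
      ∑ i, ZMod.castHom (dvd_refl p) k (e i) • (i : V) := fun v hv => by
    have hv' : v ∈ Submodule.span k (Set.range ((↑) : s → V)) := by
      rw [Subtype.range_coe, hspan]
      exact Submodule.subset_span hv
    obtain ⟨c, hc⟩ := (Submodule.mem_span_range_iff_exists_fun k).1 hv'
    have h1 : ∑ i : s, c i ^ p • (i : V) = ∑ i : s, c i • (i : V) := by
      rw [hc, ← show F v = v from hv, ← hc, map_sum]
      exact Finset.sum_congr rfl fun i _ => by rw [hF, show F (i : V) = i from hs i.2]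
    have h2 : ∀ i, c i ^ p = c i := fun i => by
      have h3 : ∑ i : s, (c i ^ p - c i) • (i : V) = 0 := by
        simp only [sub_smul, Finset.sum_sub_distrib, h1, sub_self]
      exact sub_eq_zero.1 (Fintype.linearIndependent_iff.1 hli _ h3 i)
    choose e he using fun i => LangSemilinear.exists_zmod_of_pow_eq p (h2 i)
    refine ⟨e, ?_⟩
    simp only [he]
    exact hc
  have hfin := (Set.finite_range _).subset hsub
  refine ⟨hfin, ?_⟩
  calc Nat.card {v : V | F v = v} ≤ Nat.card (Set.range fun e : s → ZMod p =>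
        ∑ i, ZMod.castHom (dvd_refl p) k (e i) • (i : V)) :=
        Nat.card_mono (Set.finite_range _) hsub
    _ ≤ Nat.card (s → ZMod p) := Finite.card_range_le _
    _ ≤ p ^ Module.finrank k V := by
        rw [Nat.card_fun, Nat.card_zmod, Nat.card_eq_fintype_card]
        exact Nat.pow_le_pow_right (Fact.out : p.Prime).pos hcard

variable {k : Type u} [Field k] [IsSepClosed k] (p : ℕ) [Fact p.Prime] [CharP k p]
  {X : Scheme.{u}} (f : X ⟶ Spec (CommRingCat.of k)) [IsProper f] (h0 : (p : Γ(X, ⊤)) = 0)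

include f in
theorem natCast_eq_zero : (p : Γ(X, ⊤)) = 0 := by
  have h : ((p : ℕ) : Coh.Γtop X) = 0 := by
    rw [← map_natCast (Coh.toGlobal f), CharP.cast_eq_zero k p, map_zero]
  exact h

/-- The Frobenius on `H^n(X, G_a)`. -/
abbrev F (n : ℕ) : EtCoh.H X (EtCoh.Ga X) n →+ EtCoh.H X (EtCoh.Ga X) n :=
  (Ext.mk₀ (ArtinSchreier.frobSub p h0 + 𝟙 _)).postcomp _ (add_zero n)

theorem F_apply (n : ℕ) (x : EtCoh.H X (EtCoh.Ga X) n) :
    F p h0 n x = x.comp (Ext.mk₀ (ArtinSchreier.frobSub p h0)) (add_zero n) + x := by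
  change Ext.comp x (Ext.mk₀ (ArtinSchreier.frobSub p h0 + 𝟙 _)) (add_zero n) = _
  rw [Ext.mk₀_add, Ext.comp_add, Ext.comp_mk₀_id]

theorem F_smul (n : ℕ) (c : k) (x : EtCoh.H X (EtCoh.Ga X) n) :
    letI := GaEnd.moduleGa (Coh.toGlobal f) n
    F p h0 n (c • x) = c ^ p • F p h0 n x := by
  change Ext.comp (Ext.comp x (Ext.mk₀ (GaEnd.mulC (Coh.toGlobal f c))) (add_zero n))
    (Ext.mk₀ (ArtinSchreier.frobSub p h0 + 𝟙 _)) (add_zero n) =
    Ext.comp (Ext.comp x (Ext.mk₀ (ArtinSchreier.frobSub p h0 + 𝟙 _)) (add_zero n))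
    (Ext.mk₀ (GaEnd.mulC (Coh.toGlobal f (c ^ p)))) (add_zero n)
  rw [Ext.comp_assoc_of_third_deg_zero, Ext.comp_assoc_of_third_deg_zero, Ext.mk₀_comp_mk₀,
    Ext.mk₀_comp_mk₀, map_pow]
  exact congrArg (fun m => Ext.comp x (Ext.mk₀ m) (add_zero n)) (ASProper.mulC_frob p h0 _)

include f in
theorem frobSub_surjective (n : ℕ) :
    Function.Surjective fun x : EtCoh.H X (EtCoh.Ga X) n =>
      x.comp (Ext.mk₀ (ArtinSchreier.frobSub p h0)) (add_zero n) := fun w => by
  letI := GaEnd.moduleGa (Coh.toGlobal f) n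
  haveI : Module.Finite k (EtCoh.H X (EtCoh.Ga X) n) := GaEnd.finite_moduleGa f n
  obtain ⟨v, hv⟩ := Basic.sub_id_surjective p (F p h0 n) (F_smul p f h0 n) w
  refine ⟨v, ?_⟩
  rw [← hv]
  change _ = F p h0 n v - v
  rw [F_apply, add_sub_cancel_right]

include f in
/-- `H^q(X, Z/p)` injects into the fixed vectors. -/
theorem exists_injective (q : ℕ) :
    ∃ ι : EtCoh.H X (EtCoh.const X (ZMod p)) q → EtCoh.H X (EtCoh.Ga X) q,
      Function.Injective ι ∧ ∀ x, F p h0 q (ι x) = ι x := by
  let S := ShortComplex.mk (ArtinSchreier.incl p h0) (ArtinSchreier.frobSub p h0)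
    (ArtinSchreier.incl_frobSub p h0)
  have hS : S.ShortExact := ArtinSchreier.shortExact p h0
  let ι : EtCoh.H X (EtCoh.const X (ZMod p)) q →+ EtCoh.H X (EtCoh.Ga X) q :=
    (Ext.mk₀ S.f).postcomp _ (add_zero q)
  refine ⟨ι, ?_, fun x => ?_⟩
  · cases q with
    | zero =>
      have := hS.mono_f
      exact Ext.postcomp_mk₀_injective_of_mono _ S.f
    | succ n =>
      refine (injective_iff_map_eq_zero _).2 fun x hx => ?_
      obtain ⟨y, rfl⟩ := Ext.covariant_sequence_exact₁ _ hS x hx (n₀ := n) rfl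
      obtain ⟨z, rfl⟩ := frobSub_surjective p f h0 n y
      change (Ext.comp z (Ext.mk₀ S.g) (add_zero n)).comp hS.extClass rfl = 0
      rw [Ext.comp_assoc_of_second_deg_zero, hS.comp_extClass, Ext.comp_zero]
  · rw [F_apply]
    change Ext.comp (Ext.comp x (Ext.mk₀ S.f) (add_zero q)) (Ext.mk₀ S.g) (add_zero q) + ι x = ι x
    rw [Ext.comp_assoc_of_third_deg_zero, Ext.mk₀_comp_mk₀, S.zero, Ext.mk₀_zero, Ext.comp_zero,
      zero_add]

include f in
/-- The order bound. -/
theorem card_H (q : ℕ) :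
    letI : X.Over (Spec (CommRingCat.of k)) := ⟨f⟩
    Finite (EtCoh.H X (EtCoh.const X (ZMod p)) q) ∧
      Nat.card (EtCoh.H X (EtCoh.const X (ZMod p)) q) ≤
        p ^ Module.finrank k (Coh.HH X (Coh.structureModule X) q) := by
  letI : X.Over (Spec (CommRingCat.of k)) := ⟨f⟩
  have h0 := natCast_eq_zero p f
  letI := GaEnd.moduleGa (Coh.toGlobal f) q
  haveI : Module.Finite k (EtCoh.H X (EtCoh.Ga X) q) := GaEnd.finite_moduleGa f q
  obtain ⟨e, he⟩ := GaEnd.exists_equiv (X := X) q
  let L : EtCoh.H X (EtCoh.Ga X) q ≃ₗ[k] Coh.HH X (Coh.structureModule X) q :=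
    { e with map_smul' := fun c x => he (Coh.toGlobal f c) x }
  obtain ⟨hfin, hle⟩ := card_fixed p (F p h0 q) (F_smul p f h0 q)
  obtain ⟨ι, hι, hfix⟩ := exists_injective p f h0 q
  let j : EtCoh.H X (EtCoh.const X (ZMod p)) q → {v | F p h0 q v = v} := fun x => ⟨ι x, hfix x⟩
  have hj : Function.Injective j := fun a b h => hι (congrArg Subtype.val h)
  haveI := hfin.to_subtype
  refine ⟨Finite.of_injective j hj, (Nat.card_le_card_of_injective j hj).trans ?_⟩
  rw [← L.finrank_eq]
  exact hle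

include f in
/-- Vanishing above the dimension. -/
theorem subsingleton_H (d : ℕ) (hd : topologicalKrullDim X = d) (q : ℕ) (hq : d + 1 ≤ q) :
    Subsingleton (EtCoh.H X (EtCoh.const X (ZMod p)) q) := by
  have h0 := natCast_eq_zero p f
  have : IsLocallyNoetherian X := LocallyOfFiniteType.isLocallyNoetherian f
  have : CompactSpace X := QuasiCompact.compactSpace_of_compactSpace f
  have : IsNoetherian X := {}
  haveI : Subsingleton (Coh.HH X (Coh.structureModule X) q) :=
    Groth.Agent.S0458.result d hd.le (Coh.toAb (Coh.structureModule X)) q hq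
  obtain ⟨e, -⟩ := GaEnd.exists_equiv (X := X) q
  haveI : Subsingleton (EtCoh.H X (EtCoh.Ga X) q) := e.toEquiv.subsingleton
  obtain ⟨ι, hι, -⟩ := exists_injective p f h0 q
  exact hι.subsingleton

end Groth.Agent.Lib.LangSep98.EtFix
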